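import Cfsg.Agent.Lib.Compute.SchurOmega73.CoverData
import Cfsg.Agent.Lib.Compute.ChainSplit

/-! Kernel checks for the triple cover. -/

set_option autoImplicit false
set_option maxRecDepth 30000
set_option Elab.async false

namespace Cfsg.Agent.Lib.Compute.SchurOmega73

open Cfsg.Agent.Lib.Compute

theorem coverGens_ok : (coverGens.all fun p => phCheck 11 378 p.1 p.2 &&
    Nat.beq (packP 11 (getP 11 p.1) 378) p.1 && Nat.beq (packP 11 (getP 11 p.2) 378) p.2) = true := by
  decide +kernel

/-- The first components are the generators. -/
noncomputable def forgetCheck : Bool :=
  Nat.beq coverGens.length o73Gens.length &&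
  (List.range coverGens.length).all fun i => (List.range 378).all fun j =>
    Nat.beq (getP 11 (coverGens.getD i (0, 0)).1 j / 3) (getP 9 (o73Gens.getD i (0, 0)).1 j)

theorem cover_forget : forgetCheck = true := by decide +kernel

/-- A central element of order three without effect on the points. -/
noncomputable def kerCheck : Bool :=
  forceNat (pathEval (phOps 11 378) coverChain coverKer).1 fun z =>
    (List.range 378).all (fun j => Nat.beq (getP 11 z j / 3) j) &&
    coverGens.all (fun q => Nat.beq ((phOps 11 378).mul z q.1) ((phOps 11 378).mul q.1 z)) &&
    Nat.beq ((phOps 11 378).mul z ((phOps 11 378).mul z z)) (phOps 11 378).one &&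
    !Nat.beq z (phOps 11 378).one

theorem cover_ker : kerCheck = true := by decide +kernel

/-- Two elements that commute on the points but not with phases. -/
noncomputable def witnessCheck : Bool :=
  forceNat (pathEval (phOps 11 378) coverChain coverWitness.1).1 fun x =>
  forceNat (pathEval (phOps 11 378) coverChain coverWitness.2).1 fun y =>
    !Nat.beq ((phOps 11 378).mul x y) ((phOps 11 378).mul y x) &&
    forceNat ((phOps 11 378).mul x y) fun a => forceNat ((phOps 11 378).mul y x) fun b =>
      (List.range 378).all fun j => Nat.beq (getP 11 a j / 3) (getP 11 b j / 3)

theorem cover_witness : witnessCheck = true := by decide +kernel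

theorem coverChain_size : chainSize coverChain = 13756055040 := by decide +kernel

theorem cover_top : topCheck (phOps 11 378) coverGens coverChain = true := by decide +kernel

theorem cover_schreier0a : schreierTake (phOps 11 378) coverGens 0 190 coverChain = true := by decide +kernel

theorem cover_schreier0b : schreierDrop (phOps 11 378) coverGens 0 190 coverChain = true := by decide +kernel

theorem cover_schreier0 : schreierAt (phOps 11 378) coverGens 0 coverChain = true :=
  schreierAt_of_halves cover_schreier0a cover_schreier0b

theorem cover_schreier1a : schreierTake (phOps 11 378) coverGens 1 190 coverChain = true := by decide +kernel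

theorem cover_schreier1b : schreierDrop (phOps 11 378) coverGens 1 190 coverChain = true := by decide +kernel

theorem cover_schreier1 : schreierAt (phOps 11 378) coverGens 1 coverChain = true :=
  schreierAt_of_halves cover_schreier1a cover_schreier1b

theorem cover_top1 : topCheck (phOps 11 378) (nextGens coverChain) coverChain.tail = true := by
  decide +kernel

theorem cover_schreier10a : schreierTake (phOps 11 378) (nextGens coverChain) 0 130 coverChain.tail = true := by decide +kernel

theorem cover_schreier10b : schreierDrop (phOps 11 378) (nextGens coverChain) 0 130 coverChain.tail = true := by decide +kernel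

theorem cover_schreier10 : schreierAt (phOps 11 378) (nextGens coverChain) 0 coverChain.tail = true :=
  schreierAt_of_halves cover_schreier10a cover_schreier10b

theorem cover_schreier11a : schreierTake (phOps 11 378) (nextGens coverChain) 1 130 coverChain.tail = true := by decide +kernel

theorem cover_schreier11b : schreierDrop (phOps 11 378) (nextGens coverChain) 1 130 coverChain.tail = true := by decide +kernel

theorem cover_schreier11 : schreierAt (phOps 11 378) (nextGens coverChain) 1 coverChain.tail = true :=
  schreierAt_of_halves cover_schreier11a cover_schreier11b

theorem cover_rest2 : chainCheck (phOps 11 378) (nextGens coverChain.tail) coverChain.tail.tail = true := by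
  decide +kernel

theorem cover_length1 : (nextGens coverChain).length = 2 := by decide +kernel

theorem cover_rest : chainCheck (phOps 11 378) (nextGens coverChain) coverChain.tail = true :=
  chainCheck_of_pieces cover_top1 (fun i hi => by
    rw [cover_length1] at hi
    interval_cases i
    · exact cover_schreier10
    · exact cover_schreier11) cover_rest2

theorem cover_length : coverGens.length = 2 := by decide +kernel

theorem coverChain_ok : chainCheck (phOps 11 378) coverGens coverChain = true :=
  chainCheck_of_pieces cover_top (fun i hi => by
    rw [cover_length] at hi
    interval_cases i
    · exact cover_schreier0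
    · exact cover_schreier1) cover_rest

end Cfsg.Agent.Lib.Compute.SchurOmega73
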