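import Cfsg.Agent.Lib.Schur.OrthSpin

/-!
The double cover of `Ω(Q)`, `q` odd: an involution in kernel and derived group.
-/

set_option autoImplicit false
set_option linter.unusedSectionVars false

namespace Cfsg.Agent.Lib.Compute.SchurOmega73

open QuadraticMap Cfsg.Agent.Lib.Orth Cfsg.Agent.Lib.Schur.OrthMult
open scoped commutatorElement

universe u

variable {ι : Type} [Fintype ι] [DecidableEq ι] {F : Type u} [Field F] {Q : QuadraticForm F (ι → F)}

set_option quotPrecheck false in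
local notation "O" => ↥(Cfsg.isometryGroup F ⇑Q)
local notation "Cl" => CliffordAlgebra Q
local notation "γ" => CliffordAlgebra.ι Q

variable [Finite F] (h2 : (2 : F) ≠ 0) (hQ : (QuadraticMap.polarBilin Q).Nondegenerate)
include h2 hQ

/-- The witness of the double cover is an involution. -/
theorem exists_double_involution (hn : 5 ≤ Fintype.card ι) :
    ∃ (X : Type u) (_ : Group X) (σ : X →* ↥(Cfsg.Omega F ⇑Q)), Function.Surjective σ ∧
      σ.ker ≤ Subgroup.center X ∧ ∃ z ∈ σ.ker ⊓ commutator X, z ≠ 1 ∧ z ^ 2 = 1 := by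
  let S : Subgroup ((CliffordAlgebra Q)ˣ × O) :=
    cliffordPairs Q ⊓ (Cfsg.Omega F ⇑Q).comap (MonoidHom.snd _ _)
  let σ : S →* ↥(Cfsg.Omega F ⇑Q) :=
    ((MonoidHom.snd _ _).comp S.subtype).codRestrict _ fun x => (Subgroup.mem_inf.mp x.2).2
  have hs : Function.Surjective σ := by
    rintro ⟨g, hg⟩
    suffices h : g ∈ (cliffordPairs Q).map (MonoidHom.snd _ _) by
      obtain ⟨⟨U, g'⟩, hU, rfl⟩ := h
      exact ⟨⟨(U, g'), Subgroup.mem_inf.mpr ⟨hU, hg⟩⟩, rfl⟩
    rw [omega_eq_siegelGroup h2 hQ hn] at hg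
    refine (Subgroup.closure_le _).mpr ?_ hg
    intro s hs'
    obtain ⟨u, v, hu, hv, huv, c, rfl⟩ := exists_eq_siegel hs'
    obtain ⟨U, hU⟩ := exists_siegel_pair hu hv huv c
    exact ⟨(U, _), hU, rfl⟩
  have hcentral : ∀ U : (CliffordAlgebra Q)ˣ, ((U, (1 : O)) : (CliffordAlgebra Q)ˣ × O) ∈ cliffordPairs Q →
      ∀ W : (CliffordAlgebra Q)ˣ, Commute U W := by
    intro U hU W
    have h := commute_all (c := (U : Cl)) (fun x => by
      have := hU x
      rwa [app_one] at this) (W : Cl)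
    exact Units.ext h.eq
  have hc : σ.ker ≤ Subgroup.center S := by
    rintro ⟨⟨U, g⟩, hp⟩ hk
    have hg : g = 1 := congrArg Subtype.val (MonoidHom.mem_ker.mp hk)
    subst hg
    rw [Subgroup.mem_center_iff]
    rintro ⟨⟨W, h⟩, hh⟩
    refine Subtype.ext (Prod.ext ?_ ?_)
    · exact ((hcentral U (Subgroup.mem_inf.mp hp).1 W).symm).eq
    · show h * 1 = 1 * h
      rw [one_mul, mul_one]
  refine ⟨S, inferInstance, σ, hs, hc, ?_⟩
  -- two commuting elements with anticommuting lifts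
  obtain ⟨v, hv, hvc⟩ := exists_orth_family h2 hQ (one_ne_zero (α := F)) (k := 3) (by omega)
  have hv' : ∀ i, Q (v i) ≠ 0 := fun i => by rw [hvc i]; exact one_ne_zero
  have hn2 : 2 ≤ Fintype.card ι := by omega
  have hmem : ∀ j : Fin 3, j ≠ 0 → refl Q (v 0) (hv' 0) * refl Q (v j) (hv' j) ∈ Cfsg.Omega F ⇑Q := by
    intro j hj
    rw [mem_omega_iff h2 hQ hn2]
    constructor
    · rw [map_mul, detSign_refl h2 hQ, detSign_refl h2 hQ]; exact Int.units_mul_self _
    · rw [map_mul, map_refl_eq h2 (spinor Q) (hv' j) (hv' 0) (by rw [hvc, hvc])]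
      exact Int.units_mul_self _
  let G : ∀ j : Fin 3, j ≠ 0 → S := fun j hj =>
    ⟨(vecUnit Q (v 0) (hv' 0) * vecUnit Q (v j) (hv' j), refl Q (v 0) (hv' 0) * refl Q (v j) (hv' j)),
      Subgroup.mem_inf.mpr ⟨pair_mem (hv' 0) (hv' j), hmem j hj⟩⟩
  set x := G 1 (by decide)
  set y := G 2 (by decide)
  have horth : ∀ i j : Fin 3, i ≠ j → γ (v i) * γ (v j) = -(γ (v j) * γ (v i)) := fun i j hij => by
    rw [gamma_mul_swap, hv i j hij, map_zero, zero_sub]
  have hg : refl Q (v 0) (hv' 0) * refl Q (v 1) (hv' 1) * (refl Q (v 0) (hv' 0) * refl Q (v 2) (hv' 2)) =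
      refl Q (v 0) (hv' 0) * refl Q (v 2) (hv' 2) * (refl Q (v 0) (hv' 0) * refl Q (v 1) (hv' 1)) := by
    have hcm : ∀ i j : Fin 3, i ≠ j → Commute (refl Q (v i) (hv' i)) (refl Q (v j) (hv' j)) := fun i j hij => by
      have h := conj_refl (refl Q (v i) (hv' i)) (hv' j)
      rw [refl_congr _ (hv' j) (app_refl_of_polar_eq_zero (hv' i) (hv i j hij))] at h
      exact mul_inv_eq_iff_eq_mul.1 h
    exact (((Commute.refl _).mul_left (hcm 1 0 (by decide))).mul_right
      ((hcm 0 2 (by decide)).mul_left (hcm 1 2 (by decide)))).eq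
  have hker : ⁅x, y⁆ ∈ σ.ker := by
    rw [MonoidHom.mem_ker, map_commutatorElement, commutatorElement_eq_one_iff_commute]
    exact Subtype.ext hg
  have hx2 : x * x ∈ σ.ker := by
    have hcm : Commute (refl Q (v 0) (hv' 0)) (refl Q (v 1) (hv' 1)) := by
      have h := conj_refl (refl Q (v 0) (hv' 0)) (hv' 1)
      rw [refl_congr _ (hv' 1) (app_refl_of_polar_eq_zero (hv' 0) (hv 0 1 (by decide)))] at h
      exact mul_inv_eq_iff_eq_mul.1 h
    rw [MonoidHom.mem_ker]
    refine Subtype.ext ?_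
    show refl Q (v 0) (hv' 0) * refl Q (v 1) (hv' 1) * (refl Q (v 0) (hv' 0) * refl Q (v 1) (hv' 1)) = 1
    rw [← mul_assoc, mul_assoc (refl Q (v 0) (hv' 0)), ← hcm.eq, ← mul_assoc, refl_mul_self, one_mul,
      refl_mul_self]
  have hsq : ⁅x, y⁆ ^ 2 = 1 := by
    have hz := Subgroup.mem_center_iff.1 (hc hker) x
    have hxx := Subgroup.mem_center_iff.1 (hc hx2) y
    have e : ⁅x * x, y⁆ = x * ⁅x, y⁆ * x⁻¹ * ⁅x, y⁆ := by
      simp only [commutatorElement_def]; group
    rw [pow_two]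
    calc ⁅x, y⁆ * ⁅x, y⁆ = x * ⁅x, y⁆ * x⁻¹ * ⁅x, y⁆ := by rw [hz, mul_inv_cancel_right]
      _ = ⁅x * x, y⁆ := e.symm
      _ = 1 := commutatorElement_eq_one_iff_commute.2 hxx.symm
  refine ⟨⁅x, y⁆, Subgroup.mem_inf.mpr ⟨?_, Subgroup.commutator_mem_commutator (Subgroup.mem_top _) (Subgroup.mem_top _)⟩, ?_, hsq⟩
  · rw [MonoidHom.mem_ker, map_commutatorElement, commutatorElement_eq_one_iff_commute]
    exact Subtype.ext hg
  · intro h
    rw [commutatorElement_eq_one_iff_commute] at h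
    have h' := congrArg (fun z : S => (((z : (CliffordAlgebra Q)ˣ × O).1 : (CliffordAlgebra Q)ˣ) : Cl)) h.eq
    simp only [x, y, G, Subgroup.coe_mul, Prod.fst_mul, Units.val_mul, vecUnit] at h'
    set a := γ (v 0)
    set b := γ (v 1)
    set c := γ (v 2)
    have haa : a * a = 1 := by rw [CliffordAlgebra.ι_sq_scalar, hvc, map_one]
    have hbb : b * b = 1 := by rw [CliffordAlgebra.ι_sq_scalar, hvc, map_one]
    have hcc : c * c = 1 := by rw [CliffordAlgebra.ι_sq_scalar, hvc, map_one]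
    have l1 : a * b * (a * c) = -(b * c) := by
      rw [horth 0 1 (by decide), neg_mul, mul_assoc, ← mul_assoc a a c, haa, one_mul]
    have l2 : a * c * (a * b) = b * c := by
      rw [horth 0 2 (by decide), neg_mul, mul_assoc, ← mul_assoc a a b, haa, one_mul, horth 2 1 (by decide),
        neg_neg]
    rw [l1, l2] at h'
    haveI : Invertible (2 : F) := invertibleOfNonzero h2
    have h3 : (2 : F) • (1 : Cl) = 0 := by
      have h4 : -(b * c) * (c * b) = b * c * (c * b) := by rw [h']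
      rw [neg_mul, mul_assoc, ← mul_assoc c c b, hcc, one_mul, hbb] at h4
      rw [two_smul]
      nth_rw 1 [← h4]
      exact neg_add_cancel 1
    exact (smul_ne_zero h2 one_ne_zero) h3

end Cfsg.Agent.Lib.Compute.SchurOmega73
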