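import Mathlib.Data.Nat.Notation

/-! Generated: isometries and points. -/

set_option autoImplicit false
set_option maxRecDepth 30000
set_option Elab.async false

namespace Cfsg.Agent.Lib.Compute.SchurOmega73

/-- For each generator: two isometries and their inverses, each with transpose and half product. -/
def isoCodes : List (List (ℕ × ℕ × ℕ)) := [[(0x2162204804449a80a86225208, 0x2045202108245a24a006aa884, 0x2241044108296214605429250), (0x158406006a1a9649a695652a4, 0x10894691696a9982664264164, 0x11815a21aa6995a6066606608), (0x1a44a242a0546082208105250, 0x1a49a80226262144214400184, 0x219501524464a444210221208), (0x19a96426642890a9449566608, 0x16aaa4956968552004a069684, 0x15a61965aa6a92024025492a4)], [(0x28aa4969928a6851551202168, 0x25928a109519266692a84a850, 0x186a49128196585866215a850), (0x1881a66a6556a94816964a114, 0x1a4aa690685a6205952545968, 0x219659612254561a29a066598), (0x269292644a99256188509a850, 0x28a6551a010aa856492992548, 0x16528aa884051561a59852168), (0x22a4945942649a69a4846a598,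 0x296a1486495818a6a55668a48, 0x255a10a5a61910966566aa114)]]

/-- The two halves of the commutator and the commutator. -/
def commCodes : List (ℕ × ℕ × ℕ) := [(0x28a5090a622226a65816989, 0x21095148260aa860492244221, 0x1425965108215896aa06a9586), (0x1145950649621568454894494, 0x142a55aa186914250a9956456, 0x4a92aa41294a615a6605496a)]

/-- The points. -/
def ptCodes : List ℕ := [4160, 5184, 6208, 4416, 5440, 6464, 4672, 5696, 6720, 1040, 5136, 9232, 1296, 5392, 9488, 1552, 5648, 9744, 4176, 1104, 10320, 4432, 1360, 10576, 4688, 1616, 10832, 8336, 1168, 6288, 8592, 1424, 6544, 8848, 1680, 6800, 260, 4356, 8452, 1284, 5380, 9476, 2308, 6404, 10500, 4164, 5188, 6212, 324, 1348, 2372, 8772, 9796, 10820, 8324, 9348, 10372, 388, 1412, 2436, 4740, 5764, 6788, 1044, 5140, 9236, 276, 4372, 8468, 2580, 6676, 10772, 4180, 1108, 10324, 340, 9556, 6484, 8788, 5716, 2644, 8340, 1172, 6292, 404, 5524, 10644, 4756, 9876, 2708, 2084, 6180, 10276, 292, 4388, 8484, 1572, 5668, 9764, 4196, 9316, 2148, 356, 5476, 10596,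 8804, 1636, 6756, 8356, 5284, 2212, 420, 9636, 6564, 4772, 1700, 10916, 1, 4097, 8193, 1025, 5121, 9217, 2049, 6145, 10241, 257, 4353, 8449, 1281, 5377, 9473, 2305, 6401, 10497, 513, 4609, 8705, 1537, 5633, 9729, 2561, 6657, 10753, 65, 1089, 2113, 321, 1345, 2369, 577, 1601, 2625, 129, 1153, 2177, 385, 1409, 2433, 641, 1665, 2689, 17, 4113, 8209, 273, 4369, 8465, 529, 4625, 8721, 81, 9297, 6225, 337, 9553, 6481, 593, 9809, 6737, 145, 5265, 10385, 401, 5521, 10641, 657, 5777, 10897, 33, 4129, 8225, 289, 4385, 8481, 545, 4641, 8737, 97, 5217, 10337, 353, 5473, 10593, 609, 5729, 10849, 161, 9377, 6305, 417, 9633, 6561, 673, 9889, 6817, 5, 4101, 8197, 1029, 5125, 9221, 2053, 6149, 10245, 69, 1093, 2117, 8517, 9541, 10565, 4677, 5701, 6725, 133, 1157, 2181, 4485, 5509, 6533, 8837, 9861, 10885, 21, 4117, 8213, 2325, 6421, 10517, 1557, 5653, 9749, 85, 9301, 6229, 8533, 5461, 2389, 4693, 1621, 10837, 149, 5269, 10389, 4501, 9621, 2453, 8853, 1685, 6805, 37, 4133, 8229, 1317, 5413, 9509, 2597, 6693,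 10789, 101, 5221, 10341, 8549, 1381, 6501, 4709, 9829, 2661, 165, 9381, 6309, 4517, 1445, 10661, 8869, 5797, 2725, 9, 4105, 8201, 1033, 5129, 9225, 2057, 6153, 10249, 73, 1097, 2121, 4425, 5449, 6473, 8777, 9801, 10825, 137, 1161, 2185, 8585, 9609, 10633, 4745, 5769, 6793, 25, 4121, 8217, 1305, 5401, 9497, 2585, 6681, 10777, 89, 9305, 6233, 4441, 1369, 10585, 8793, 5721, 2649, 153, 5273, 10393, 8601, 1433, 6553, 4761, 9881, 2713, 41, 4137, 8233, 2345, 6441, 10537, 1577, 5673, 9769, 105, 5225, 10345, 4457, 9577, 2409, 8809, 1641, 6761, 169, 9385, 6313, 8617, 5545, 2473, 4777, 1705, 10921]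

end Cfsg.Agent.Lib.Compute.SchurOmega73
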