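import Cfsg.Agent.Lib.Compute.SchurOmega73.Data
import Cfsg.Agent.Lib.Compute.SchurOmega73.Points
import Cfsg.Agent.Lib.Compute.ActionImage
import Cfsg.Agent.Lib.CosetTable.Fi22O7Mat.Basic
import Cfsg.Agent.Lib.Classical.Standard
import Cfsg.Agent.Lib.Dickson.StdQuad
import Cfsg.Agent.Lib.Orth.Omega
import Cfsg.Agent.Lib.Orth.Centre

/-!
`Ω₇(3)` is the certified group on 378 points.
-/

set_option autoImplicit false
set_option maxRecDepth 20000

namespace Cfsg.Agent.Lib.Compute.SchurOmega73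

open Cfsg.Agent.Lib
open Cfsg.Agent.Lib.CosetTable (force force_eq rangeAll rangeAll_spec beq_iff)
open Cfsg.Agent.Lib.CosetTable.Fi22O7Mat
open scoped Matrix commutatorElement

/-- An entry of a coded vector. -/
def vent (v k : ℕ) : ℕ := Nat.land (Nat.shiftRight v (2 * k)) 3

/-- The coded vector. -/
def toVec (v : ℕ) : Idx → ZMod 3 := fun i => (vent v (pos i) : ZMod 3)

/-- Row times vector. -/
def vdot (g v i : ℕ) : ℕ :=
  ent g i 0 * vent v 0 + ent g i 1 * vent v 1 + ent g i 2 * vent v 2 + ent g i 3 * vent v 3 +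
    ent g i 4 * vent v 4 + ent g i 5 * vent v 5 + ent g i 6 * vent v 6

/-- `g` sends `v` to `t` or to its negative. -/
noncomputable def vecOK (g v t : ℕ) : Bool :=
  force g fun g => force v fun v => force t fun t =>
    rangeAll (fun i => Nat.beq (vdot g v i % 3) (vent t i % 3)) 7 0 ||
      rangeAll (fun i => Nat.beq (vdot g v i % 3) (2 * vent t i % 3)) 7 0

/-- The outer product as a number. -/
noncomputable def ocode (v : ℕ) : ℕ :=
  force v fun v => (List.range 49).foldr (fun k s => 4 * s + vent v (k / 7) * vent v (k % 7) % 3) 0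

/-- One of the four isometries of a generator. -/
def isoCode (k : Fin 2) (i : Fin 4) : ℕ × ℕ × ℕ := (isoCodes.getD k []).getD i (0, 0, 0)

/-- The point with a given number. -/
def ptCode (j : Fin 378) : ℕ := ptCodes.getD j 0

/-- The matrices are isometries, inverse in pairs, with the given commutators. -/
noncomputable def matsCheck (k : ℕ) : Bool :=
  let it := isoCodes.getD k []
  let a := it.getD 0 (0, 0, 0)
  let b := it.getD 1 (0, 0, 0)
  let a' := it.getD 2 (0, 0, 0)
  let b' := it.getD 3 (0, 0, 0)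
  let c := commCodes.getD k (0, 0, 0)
  rangeAll (fun i => let t := it.getD i (0, 0, 0)
    transOK t.1 t.2.1 && mulOK t.2.1 formCode t.2.2 && mulOK t.2.2 t.1 formCode) 4 0 &&
  mulOK a.1 a'.1 oneCode && mulOK a'.1 a.1 oneCode && mulOK b.1 b'.1 oneCode && mulOK b'.1 b.1 oneCode &&
  mulOK a.1 b.1 c.1 && mulOK a'.1 b'.1 c.2.1 && mulOK c.1 c.2.1 c.2.2

theorem mats_ok : rangeAll matsCheck 2 0 = true := by decide +kernel

theorem acts_ok : rangeAll (fun k => rangeAll (fun j =>
    Nat.blt (getP 9 (o73Gens.getD k (0, 0)).1 j) 378 &&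
      vecOK (commCodes.getD k (0, 0, 0)).2.2 (ptCodes.getD j 0)
        (ptCodes.getD (getP 9 (o73Gens.getD k (0, 0)).1 j) 0)) 378 0) 2 0 = true := by decide +kernel

theorem pts_inj_ok : rangeAll (fun i => rangeAll (fun j =>
    Nat.beq i j || !Nat.beq (ocode (ptCodes.getD i 0)) (ocode (ptCodes.getD j 0))) 378 0) 378 0 = true := by
  decide +kernel

theorem o73Gens_length : o73Gens.length = 2 := by decide +kernel

theorem vent_lt (v k : ℕ) : vent v k < 4 := Nat.lt_succ_of_le Nat.and_le_right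

theorem ocode_congr {v t : ℕ}
    (h : ∀ a b : ℕ, a < 7 → b < 7 → vent v a * vent v b % 3 = vent t a * vent t b % 3) :
    ocode v = ocode t := by
  simp only [ocode, force_eq]
  refine List.foldr_ext _ _ _ fun k hk s => ?_
  rw [List.mem_range] at hk
  rw [h (k / 7) (k % 7) (by omega) (by omega)]

theorem pos_surj {a : ℕ} (ha : a < 7) : ∃ i : Idx, pos i = a := by
  interval_cases a
  · exact ⟨.inl (), rfl⟩
  · exact ⟨.inr (.inl 0), rfl⟩
  · exact ⟨.inr (.inl 1), rfl⟩
  · exact ⟨.inr (.inl 2), rfl⟩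
  · exact ⟨.inr (.inr 0), rfl⟩
  · exact ⟨.inr (.inr 1), rfl⟩
  · exact ⟨.inr (.inr 2), rfl⟩

theorem vecMulVec_inj {i j : Fin 378}
    (h : Matrix.vecMulVec (toVec (ptCode i)) (toVec (ptCode i)) =
      Matrix.vecMulVec (toVec (ptCode j)) (toVec (ptCode j))) : i = j := by
  have hc : ocode (ptCode i) = ocode (ptCode j) := by
    refine ocode_congr fun a b ha hb => ?_
    obtain ⟨x, rfl⟩ := pos_surj ha
    obtain ⟨y, rfl⟩ := pos_surj hb
    have := congrFun (congrFun h x) y
    simp only [Matrix.vecMulVec_apply, toVec, ← Nat.cast_mul] at this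
    exact (ZMod.natCast_eq_natCast_iff' _ _ _).1 this
  have h1 := rangeAll_spec (rangeAll_spec pts_inj_ok i (Nat.zero_le _) (by omega)) j (Nat.zero_le _) (by omega)
  by_contra hne
  simp only [Bool.or_eq_true, Bool.not_eq_true', ptCode] at h1 hc
  rcases h1 with h1 | h1
  · exact hne (Fin.ext (Nat.eq_of_beq_eq_true h1))
  · rw [hc] at h1
    simp at h1

theorem vec_acts {g v t : ℕ} (h : vecOK g v t = true) :
    (toMat g).mulVec (toVec v) = toVec t ∨ (toMat g).mulVec (toVec v) = -toVec t := by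
  simp only [vecOK, force_eq, Bool.or_eq_true] at h
  have e : ∀ a : Idx, (toMat g).mulVec (toVec v) a = (vdot g v (pos a) : ℕ) := by
    intro a
    simp only [Matrix.mulVec, dotProduct, toMat, toVec, Matrix.of_apply, Fintype.sum_sum_type,
      Fin.sum_univ_three, Finset.univ_unique, Finset.sum_singleton]
    simp [vdot, pos]
    ring
  rcases h with h | h
  · left
    funext a
    have h1 := beq_iff.mp (rangeAll_spec h (pos a) (Nat.zero_le _) (by have := pos_lt a; omega))
    rw [e]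
    exact (ZMod.natCast_eq_natCast_iff' _ _ _).2 h1
  · right
    funext a
    have h1 := beq_iff.mp (rangeAll_spec h (pos a) (Nat.zero_le _) (by have := pos_lt a; omega))
    rw [e, (ZMod.natCast_eq_natCast_iff' _ _ _).2 h1, Pi.neg_apply]
    push_cast
    rw [show (2 : ZMod 3) = -1 by decide, neg_one_mul]
    rfl

universe u

/-- The group `PΩ₇(3)` is the certified permutation group. -/
theorem nonempty_iso (F : Type u) [Field F] [Fintype F] (hF : Fintype.card F = 3) (hm : 378 ≤ 2 ^ 9) :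
    Nonempty (Cfsg.Omega F (Cfsg.quadFormOdd 3 F) ≃*
      genGroup (permCoding 9 (Equiv.refl (Fin 378)) hm) o73Gens) := by
  haveI : Fact (Nat.Prime 3) := ⟨Nat.prime_three⟩
  haveI : CharP F 3 := charP_of_card_eq_prime hF
  let φ : ZMod 3 →+* F := ZMod.castHom (dvd_refl 3) F
  have hφ : Function.Bijective φ :=
    (Fintype.bijective_iff_injective_and_card _).2 ⟨φ.injective, by rw [hF]; rfl⟩
  have hlift : ∀ v : Idx → F, ∃ w : Idx → ZMod 3, v = φ ∘ w := fun v => by
    choose w hw using fun a => hφ.2 (v a)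
    exact ⟨w, funext fun a => (hw a).symm⟩
  have hmul : ∀ (M : Matrix Idx Idx (ZMod 3)) (v : Idx → ZMod 3),
      (M.map φ).mulVec (φ ∘ v) = φ ∘ M.mulVec v := fun M v =>
    funext fun a => (RingHom.map_mulVec φ M v a).symm
  have hquad : ∀ w : Idx → ZMod 3, Cfsg.quadFormOdd 3 F (φ ∘ w) = φ (Cfsg.quadFormOdd 3 (ZMod 3) w) :=
    fun w => by simp [Cfsg.quadFormOdd, map_sum]
  have hm' : ∀ k : Fin 2, matsCheck k = true := fun k =>
    rangeAll_spec mats_ok k (Nat.zero_le _) (by omega)
  simp only [matsCheck, Bool.and_eq_true] at hm'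
  have hone : ∀ {a b : ℕ}, mulOK a b oneCode = true → (toMat a).map φ * (toMat b).map φ = 1 :=
    fun h => by rw [← Matrix.map_mul, toMat_mul h, toMat_one, Matrix.map_one _ (map_zero φ) (map_one φ)]
  let gl : Fin 2 → Bool → Matrix.GeneralLinearGroup Idx F := fun k b =>
    bif b then ⟨(toMat (isoCode k 1).1).map φ, (toMat (isoCode k 3).1).map φ,
      hone (hm' k).1.1.1.1.2, hone (hm' k).1.1.1.2⟩
    else ⟨(toMat (isoCode k 0).1).map φ, (toMat (isoCode k 2).1).map φ,
      hone (hm' k).1.1.1.1.1.1.2, hone (hm' k).1.1.1.1.1.2⟩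
  have hmem : ∀ k b, gl k b ∈ Cfsg.isometryGroup F (Cfsg.quadFormOdd 3 F) := by
    intro k b u _
    obtain ⟨w, rfl⟩ := hlift u
    obtain ⟨i, hi⟩ : ∃ i : Fin 4, (gl k b).val = (toMat (isoCode k i).1).map φ := by
      cases b
      · exact ⟨0, rfl⟩
      · exact ⟨1, rfl⟩
    have h1 := rangeAll_spec (hm' k).1.1.1.1.1.1.1 i (Nat.zero_le _) (by omega)
    simp only [Bool.and_eq_true] at h1
    show Cfsg.quadFormOdd 3 F ((gl k b).val.mulVec (φ ∘ w)) = Cfsg.quadFormOdd 3 F (φ ∘ w)
    rw [hi, hmul, hquad, hquad, isoCode, preserves h1.1.1 h1.1.2 h1.2 w]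
  let el : Fin 2 → Bool → Cfsg.isometryGroup F (Cfsg.quadFormOdd 3 F) := fun k b => ⟨gl k b, hmem k b⟩
  let gs : List (Cfsg.isometryGroup F (Cfsg.quadFormOdd 3 F)) :=
    List.ofFn fun k : Fin 2 => ⁅el k false, el k true⁆
  let pts : Fin 378 → Matrix Idx Idx F := fun j =>
    Matrix.vecMulVec (φ ∘ toVec (ptCode j)) (φ ∘ toVec (ptCode j))
  have hinj : Function.Injective pts := fun i j h => vecMulVec_inj (by
    ext a b
    have := congrFun (congrFun h a) b
    simp only [pts, Matrix.vecMulVec_apply, Function.comp_apply, ← map_mul] at this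
    exact hφ.1 this)
  letI : MulAction (Cfsg.isometryGroup F (Cfsg.quadFormOdd 3 F)) (Matrix Idx Idx F) :=
    { smul := fun g X => g.1.val * X * g.1.valᵀ
      one_smul := fun X => by
        show (1 : Matrix Idx Idx F) * X * (1 : Matrix Idx Idx F)ᵀ = X
        rw [Matrix.transpose_one, one_mul, mul_one]
      mul_smul := fun a b X => by
        show a.1.val * b.1.val * X * (a.1.val * b.1.val)ᵀ =
          a.1.val * (b.1.val * X * b.1.valᵀ) * a.1.valᵀ
        simp only [Matrix.transpose_mul, Matrix.mul_assoc] }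
  have hS : GensOK (permCoding 9 (Equiv.refl (Fin 378)) hm) o73Gens := gensOK_literal _ _ o73Gens_ok
  have hacts : ActsBy 9 pts gs o73Gens := by
    refine ⟨by rw [o73Gens_length]; exact List.length_ofFn, fun k g p hg hp j => ?_⟩
    obtain ⟨hk, rfl⟩ := List.getElem?_eq_some_iff.1 hg
    obtain ⟨hk', rfl⟩ := List.getElem?_eq_some_iff.1 hp
    have hk2 : k < 2 := lt_of_lt_of_eq hk List.length_ofFn
    have h0 := rangeAll_spec (rangeAll_spec acts_ok k (Nat.zero_le _) (by omega)) j (Nat.zero_le _) (by omega)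
    simp only [Bool.and_eq_true, List.getD_eq_getElem _ _ hk'] at h0
    have hlt := Nat.le_of_ble_eq_true h0.1
    refine ⟨hlt, ?_⟩
    have hgk : gs[k]'hk = ⁅el ⟨k, hk2⟩ false, el ⟨k, hk2⟩ true⁆ := List.getElem_ofFn hk
    have hval : (gs[k]'hk).1.val = (toMat (commCodes.getD k (0, 0, 0)).2.2).map φ := by
      rw [hgk, commutatorElement_def]
      show (toMat (isoCode ⟨k, hk2⟩ 0).1).map φ * (toMat (isoCode ⟨k, hk2⟩ 1).1).map φ *
        (toMat (isoCode ⟨k, hk2⟩ 2).1).map φ * (toMat (isoCode ⟨k, hk2⟩ 3).1).map φ = _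
      obtain ⟨⟨⟨-, h1⟩, h2⟩, h3⟩ := hm' ⟨k, hk2⟩
      rw [← toMat_mul h3, ← toMat_mul h2, ← toMat_mul h1, Matrix.map_mul, Matrix.map_mul, Matrix.map_mul,
        Matrix.mul_assoc ((toMat _).map φ * (toMat _).map φ)]
      rfl
    have hrank : ∀ (A : Matrix Idx Idx F) (v : Idx → F),
        A * Matrix.vecMulVec v v * Aᵀ = Matrix.vecMulVec (A.mulVec v) (A.mulVec v) := fun A v => by
      rw [Matrix.mul_vecMulVec, Matrix.vecMulVec_mul, Matrix.vecMul_transpose]
    show (gs[k]'hk).1.val * pts j * (gs[k]'hk).1.valᵀ = _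
    rw [hval, hrank, hmul]
    show _ = Matrix.vecMulVec (φ ∘ toVec (ptCodes.getD _ 0)) (φ ∘ toVec (ptCodes.getD _ 0))
    rcases vec_acts h0.2 with e | e
    · rw [ptCode, e]
    · rw [ptCode, e]
      ext a b
      simp [Matrix.vecMulVec_apply]
  have h2 : (2 : F) ≠ 0 := by
    intro h
    have := congrArg (fun x => x) h
    exact absurd ((CharP.cast_eq_zero_iff F 3 2).1 (by exact_mod_cast this)) (by norm_num)
  have hidx : (Cfsg.Omega F (Cfsg.quadFormOdd 3 F)).index = 4 := by
    rw [← StdForms.coe_oddQ]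
    exact Orth.index_omega h2 (StdForms.oddQ_nondegenerate h2 3) (by decide)
  have hcardH : Nat.card (Cfsg.Omega F (Cfsg.quadFormOdd 3 F)) =
      Nat.card (genGroup (permCoding 9 (Equiv.refl (Fin 378)) hm) o73Gens) := by
    have hO := (Cfsg.Omega F (Cfsg.quadFormOdd 3 F)).card_mul_index
    rw [hidx, Classical.natCard_isometryGroup_odd h2 3, Nat.card_eq_fintype_card (α := F), hF,
      Finset.prod_range_succ, Finset.prod_range_succ, Finset.prod_range_one] at hO
    rw [card_genGroup _ hS o73Chain_ok, o73Chain_size]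
    norm_num at hO
    omega
  have hgs : ∀ g ∈ gs, g ∈ Cfsg.Omega F (Cfsg.quadFormOdd 3 F) := fun g hg => by
    obtain ⟨k, rfl⟩ := (List.mem_ofFn' _ _).1 hg
    exact Subgroup.commutator_mem_commutator (Subgroup.mem_top _) (Subgroup.mem_top _)
  exact nonempty_mulEquiv_genGroup hm _ pts hinj gs hgs hS hacts hcardH

end Cfsg.Agent.Lib.Compute.SchurOmega73
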