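import Cfsg.Agent.Lib.Compute.Schur.Bound
import Cfsg.Agent.Lib.Compute.SchurOmega73.CoverCheck
import Cfsg.Agent.Lib.Compute.SchurOmega73.Schur2
import Cfsg.Agent.Lib.Compute.SchurOmega73.Schur3
import Cfsg.Agent.Lib.Compute.SchurOmega73.Model
import Cfsg.Agent.Lib.Compute.SchurOmega73.Double

/-!
The Schur multiplier of `PΩ₇(3)` is cyclic of order six.
-/

set_option autoImplicit false

namespace Cfsg.Agent.Lib.Compute.SchurOmega73

open Cfsg.Agent.Lib
open Cfsg.Agent.Lib.Compute.Schur
open scoped commutatorElement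

universe u

theorem prime_three_of_ne {q : ℕ} (hq : q.Prime) (h : q ∣ 4585351680) (h2 : q ^ 2 ∣ 4585351680) :
    q = 2 ∨ q = 3 := by
  have hd : q ∣ (2 * 3 * 5 * 7 * 13) ^ 9 := h.trans (by norm_num)
  have hd := hq.dvd_of_dvd_pow hd
  rcases (Nat.Prime.dvd_mul hq).1 hd with hd | hd
  · rcases (Nat.Prime.dvd_mul hq).1 hd with hd | hd
    · rcases (Nat.Prime.dvd_mul hq).1 hd with hd | hd
      · rcases (Nat.Prime.dvd_mul hq).1 hd with hd | hd
        · exact Or.inl ((Nat.prime_dvd_prime_iff_eq hq Nat.prime_two).1 hd)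
        · exact Or.inr ((Nat.prime_dvd_prime_iff_eq hq Nat.prime_three).1 hd)
      · rw [(Nat.prime_dvd_prime_iff_eq hq Nat.prime_five).1 hd] at h2; norm_num at h2
    · rw [(Nat.prime_dvd_prime_iff_eq hq (by norm_num)).1 hd] at h2; norm_num at h2
  · rw [(Nat.prime_dvd_prime_iff_eq hq (by norm_num)).1 hd] at h2; norm_num at h2

theorem isCyclic_of_card_six {A : Type*} [CommGroup A] [Finite A] (h : Nat.card A = 6) : IsCyclic A := by
  haveI := Fact.mk Nat.prime_two
  haveI := Fact.mk Nat.prime_three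
  obtain ⟨a, ha⟩ := exists_prime_orderOf_dvd_card' (G := A) 2 (by rw [h]; norm_num)
  obtain ⟨b, hb⟩ := exists_prime_orderOf_dvd_card' (G := A) 3 (by rw [h]; norm_num)
  refine isCyclic_of_orderOf_eq_card (a * b) ?_
  rw [(Commute.all a b).orderOf_mul_eq_mul_orderOf_of_coprime (by rw [ha, hb]; norm_num), ha, hb, h]

/-- An element of prime order in kernel and derived group divides the order of the multiplier. -/
theorem dvd_card_mult {Q : Type*} [Group Q] [Finite Q] {A : Type*} [CommGroup A] [Finite A]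
    (hA : Cfsg.HasSchurMultiplier Q A) {p : ℕ} (hp : p.Prime) {X : Type*} [Group X] (σ : X →* Q)
    (hσ : Function.Surjective σ) (hc : σ.ker ≤ Subgroup.center X) {z : X}
    (hz : z ∈ σ.ker ⊓ commutator X) (hz1 : z ≠ 1) (hzp : z ^ p = 1) : p ∣ Nat.card A := by
  obtain ⟨g, hg⟩ := Schur.exists_surjection_of_hasSchurMultiplier hA σ hσ hc
  obtain ⟨a, ha⟩ := hg ⟨z, hz⟩
  haveI := Fact.mk hp
  have h1 : orderOf (⟨z, hz⟩ : (σ.ker ⊓ commutator X : Subgroup X)) = p :=
    orderOf_eq_prime (Subtype.ext hzp) fun e => hz1 (congrArg Subtype.val e)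
  rw [← h1, ← ha]
  exact (orderOf_map_dvd g a).trans (orderOf_dvd_natCard a)

theorem perm_ext_img {n : ℕ} {g h : Equiv.Perm (Fin n)}
    (H : ∀ j < n, imgP (Equiv.refl (Fin n)) g j = imgP (Equiv.refl (Fin n)) h j) : g = h :=
  Equiv.ext fun j => Fin.ext (by simpa [imgP] using H j j.isLt)

theorem imgP_forget_enc {w n : ℕ} (hw : 3 * n ≤ 2 ^ w) (g : phaseGroup n) {j : ℕ} (hj : j < n) :
    imgP (Equiv.refl (Fin n)) (phForget n g) j = getP w ((phCoding w n hw).enc g) j / 3 := by
  rw [imgP_phForget g hj]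
  exact congrArg (· / 3) (getP_encPh hw g hj).symm

theorem getP_permCoding_enc {w n : ℕ} (hw : n ≤ 2 ^ w) (h : Equiv.Perm (Fin n)) {j : ℕ} (hj : j < n) :
    getP w ((permCoding w (Equiv.refl (Fin n)) hw).enc h) j = imgP (Equiv.refl (Fin n)) h j :=
  getP_encP hw _ h hj

theorem imgP_one {n : ℕ} {j : ℕ} (hj : j < n) : imgP (Equiv.refl (Fin n)) 1 j = j := by
  simp [imgP, hj]

/-- The certified group has a central extension with an element of order three in kernel and derived group. -/
theorem exists_triple (hm : 378 ≤ 2 ^ 9) :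
    ∃ (X : Type) (_ : Group X) (τ : X →* genGroup (permCoding 9 (Equiv.refl (Fin 378)) hm) o73Gens),
      Function.Surjective τ ∧ τ.ker ≤ Subgroup.center X ∧
        ∃ z ∈ τ.ker ⊓ commutator X, z ≠ 1 ∧ z ^ 3 = 1 := by
  have hn : 3 * 378 ≤ 2 ^ 11 := by norm_num
  let C := phCoding 11 378 hn
  let C' := permCoding 9 (Equiv.refl (Fin 378)) hm
  have hX : GensOK C coverGens := gensOK_phase hn coverGens_ok
  have hS : GensOK C' o73Gens := gensOK_literal _ _ o73Gens_ok
  have hf := cover_forget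
  simp only [forgetCheck, Bool.and_eq_true, List.all_eq_true, List.mem_range] at hf
  obtain ⟨hlen, hf⟩ := hf
  have hlen := Nat.eq_of_beq_eq_true hlen
  have himg : ∀ g : phaseGroup 378, ∀ i < coverGens.length, C.enc g = (coverGens.getD i (0, 0)).1 →
      C'.enc (phForget 378 g) = (o73Gens.getD i (0, 0)).1 := by
    intro g i hi hg
    have hi' : i < o73Gens.length := hlen ▸ hi
    rw [List.getD_eq_getElem o73Gens _ hi']
    obtain ⟨h, -, hh, -⟩ := hS o73Gens[i] (List.getElem_mem hi')
    rw [← hh]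
    refine congrArg C'.enc (perm_ext_img fun j hj => ?_)
    have e := Nat.eq_of_beq_eq_true (hf i hi j hj)
    rw [← hg, List.getD_eq_getElem o73Gens _ hi', ← hh] at e
    rw [imgP_forget_enc hn g hj, ← getP_permCoding_enc hm h hj]
    exact e
  have hle : genGroup C coverGens ≤ (genGroup C' o73Gens).comap (phForget 378) := by
    refine (Subgroup.closure_le _).2 ?_
    rintro g ⟨q, hq, hg⟩
    obtain ⟨i, hi, rfl⟩ := List.getElem_of_mem hq
    exact mem_genGroup_of_enc C' (List.getElem_mem (hlen ▸ hi))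
      ((himg g i hi (by rw [hg, List.getD_eq_getElem coverGens _ hi])).trans
        (by rw [List.getD_eq_getElem]))
  let τ : genGroup C coverGens →* genGroup C' o73Gens :=
    ((phForget 378).comp (genGroup C coverGens).subtype).codRestrict _ fun g => hle g.2
  have hτ : Function.Surjective τ := by
    rintro ⟨h, hh⟩
    have hle' : genGroup C' o73Gens ≤ ((phForget 378).comp (genGroup C coverGens).subtype).range := by
      refine (Subgroup.closure_le _).2 ?_
      rintro h ⟨q, hq, hhq⟩
      obtain ⟨i, hi, rfl⟩ := List.getElem_of_mem hq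
      have hi' : i < coverGens.length := hlen.symm ▸ hi
      obtain ⟨g, -, hg, -⟩ := hX coverGens[i] (List.getElem_mem hi')
      refine ⟨⟨g, mem_genGroup_of_enc C (List.getElem_mem hi') hg⟩, C'.inj ?_⟩
      rw [hhq]
      exact (himg g i hi' (by rw [hg, List.getD_eq_getElem coverGens _ hi'])).trans
        (by rw [List.getD_eq_getElem])
    obtain ⟨g, hg⟩ := hle' hh
    exact ⟨g, Subtype.ext hg⟩
  have hcard : Nat.card τ.ker = 3 := by
    have h1 := Subgroup.card_mul_index τ.ker
    rw [Subgroup.index_ker, MonoidHom.range_eq_top.2 hτ, Subgroup.card_top,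
      card_genGroup C hX coverChain_ok, card_genGroup C' hS o73Chain_ok, coverChain_size, o73Chain_size] at h1
    omega
  -- the certified central element generates the kernel
  obtain ⟨c, hc, hc1, -⟩ := pairOK_pathEval C hX coverChain_ok coverKer
  have hker := cover_ker
  simp only [kerCheck, forceNat_eq, Bool.and_eq_true, List.all_eq_true, List.mem_range,
    Bool.not_eq_true'] at hker
  obtain ⟨⟨⟨hfix, hcomm⟩, hpow⟩, hne⟩ := hker
  rw [← hc1] at hfix hcomm hpow hne
  have hcen : (⟨c, hc⟩ : genGroup C coverGens) ∈ Subgroup.center (genGroup C coverGens) := by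
    have h : genGroup C coverGens ≤ Subgroup.centralizer {c} := by
      refine (Subgroup.closure_le _).2 ?_
      rintro g ⟨q, hq, hg⟩
      refine Subgroup.mem_centralizer_singleton_iff.2 (C.inj ?_)
      rw [← C.mul_enc, ← C.mul_enc, hg]
      exact (Nat.eq_of_beq_eq_true (hcomm q hq)).symm
    exact Subgroup.mem_center_iff.2 fun g =>
      Subtype.ext (Subgroup.mem_centralizer_singleton_iff.1 (h g.2))
  have hmem : (⟨c, hc⟩ : genGroup C coverGens) ∈ τ.ker := by
    refine Subtype.ext ?_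
    show phForget 378 c = 1
    refine perm_ext_img fun j hj => ?_
    rw [imgP_forget_enc hn c hj, imgP_one hj]
    exact Nat.eq_of_beq_eq_true (hfix j hj)
  have hord : orderOf (⟨c, hc⟩ : genGroup C coverGens) = 3 := by
    haveI := Fact.mk Nat.prime_three
    refine orderOf_eq_prime (Subtype.ext (C.inj ?_)) fun e => ?_
    · have h := Nat.eq_of_beq_eq_true hpow
      rw [C.mul_enc, C.mul_enc, ← C.one_enc] at h
      simpa [pow_succ, mul_assoc] using h
    · have e1 : c = 1 := congrArg Subtype.val e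
      rw [e1, C.one_enc] at hne
      simp at hne
  have hzp : τ.ker = Subgroup.zpowers (⟨c, hc⟩ : genGroup C coverGens) :=
    (Subgroup.eq_of_le_of_card_ge (by simpa using hmem)
      (by rw [Nat.card_zpowers, hord, hcard])).symm
  have hcent : τ.ker ≤ Subgroup.center (genGroup C coverGens) := by
    rw [hzp, Subgroup.zpowers_le]; exact hcen
  have hw := cover_witness
  simp only [witnessCheck, forceNat_eq, Bool.and_eq_true, List.all_eq_true, List.mem_range,
    Bool.not_eq_true'] at hw
  obtain ⟨x, hx, hx1, -⟩ := pairOK_pathEval C hX coverChain_ok coverWitness.1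
  obtain ⟨y, hy, hy1, -⟩ := pairOK_pathEval C hX coverChain_ok coverWitness.2
  rw [← hx1, ← hy1, C.mul_enc, C.mul_enc] at hw
  obtain ⟨hxy, hb⟩ := hw
  have hz : ⁅(⟨x, hx⟩ : genGroup C coverGens), ⟨y, hy⟩⁆ ∈ τ.ker := by
    rw [MonoidHom.mem_ker, map_commutatorElement]
    refine commutatorElement_eq_one_iff_commute.2 (Subtype.ext ?_)
    show phForget 378 x * phForget 378 y = phForget 378 y * phForget 378 x
    rw [← map_mul, ← map_mul]
    refine perm_ext_img fun j hj => ?_
    rw [imgP_forget_enc hn _ hj, imgP_forget_enc hn _ hj]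
    exact Nat.eq_of_beq_eq_true (hb j hj)
  refine ⟨_, inferInstance, τ, hτ, hcent, _, Subgroup.mem_inf.2
    ⟨hz, Subgroup.commutator_mem_commutator (Subgroup.mem_top _) (Subgroup.mem_top _)⟩, ?_, ?_⟩
  · intro h
    have h' : x * y = y * x := congrArg Subtype.val (commutatorElement_eq_one_iff_commute.1 h).eq
    rw [h'] at hxy
    simp at hxy
  · exact orderOf_dvd_iff_pow_eq_one.1 ((Subgroup.orderOf_dvd_natCard τ.ker hz).trans (dvd_of_eq hcard))

/-- The multiplier of `PΩ₇(3)`. -/
theorem schur_POmega73 (F : Type u) [Field F] [Fintype F] (hF : Fintype.card F = 3) :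
    Cfsg.HasCyclicSchurMultiplier (Cfsg.POmega F (Cfsg.quadFormOdd 3 F)) 6 := by
  have hm : 378 ≤ 2 ^ 9 := by norm_num
  obtain ⟨iso⟩ := nonempty_iso F hF hm
  have hS : GensOK (permCoding 9 (Equiv.refl (Fin 378)) hm) o73Gens := gensOK_literal _ _ o73Gens_ok
  obtain ⟨A, _, _, hA⟩ := Schur.exists_hasSchurMultiplier
    (genGroup (permCoding 9 (Equiv.refl (Fin 378)) hm) o73Gens)
  have hdvd : Nat.card A ∣ 6 := by
    obtain ⟨Γ, _, _, σ, hσ, ⟨e⟩⟩ := hA.1
    rw [← Nat.card_congr e.toEquiv]
    refine card_ker_dvd _ hS o73Chain_ok o73Chain_size [o73Schur2, o73Schur3] ?_ (by norm_num) ?_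
      (fun p hp hp2 => ?_) hσ
    · intro B hB
      rcases List.mem_pair.1 hB with rfl | rfl
      · exact ⟨Nat.prime_two, o73Schur2_ok⟩
      · exact ⟨Nat.prime_three, o73Schur3_ok⟩
    · intro B hB
      rcases List.mem_pair.1 hB with rfl | rfl <;> decide
    · rcases prime_three_of_ne hp ((dvd_pow_self p two_ne_zero).trans hp2) hp2 with rfl | rfl
      · exact ⟨o73Schur2, List.mem_cons_self .., rfl⟩
      · exact ⟨o73Schur3, by simp, rfl⟩
  obtain ⟨X3, _, τ3, h3, hc3, z3, hz3, hz31, hz3p⟩ := exists_triple hm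
  have hd3 : 3 ∣ Nat.card A := dvd_card_mult hA Nat.prime_three τ3 h3 hc3 hz3 hz31 hz3p
  have h2F : (2 : F) ≠ 0 := by
    haveI : Fact (Nat.Prime 3) := ⟨Nat.prime_three⟩
    haveI : CharP F 3 := charP_of_card_eq_prime hF
    intro h
    exact absurd ((CharP.cast_eq_zero_iff F 3 2).1 (by exact_mod_cast h)) (by norm_num)
  have hQ := StdForms.oddQ_nondegenerate (F := F) h2F 3
  have hd2 : 2 ∣ Nat.card A := by
    obtain ⟨X, _, σ, hσ, hc, z, hz, hz1, hzp⟩ := exists_double_involution h2F hQ (by decide)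
    obtain ⟨e⟩ : Nonempty (↥(Cfsg.Omega F ⇑(StdForms.oddQ F 3)) ≃*
        genGroup (permCoding 9 (Equiv.refl (Fin 378)) hm) o73Gens) := by
      rw [StdForms.coe_oddQ]; exact ⟨iso⟩
    have hk : (e.toMonoidHom.comp σ).ker = σ.ker := MonoidHom.ker_comp_of_injective σ _ e.injective
    exact dvd_card_mult hA Nat.prime_two (e.toMonoidHom.comp σ) (e.surjective.comp hσ) (hk ▸ hc)
      (hk.symm ▸ hz) hz1 hzp
  have hcard : Nat.card A = 6 :=
    Nat.dvd_antisymm hdvd (Nat.Coprime.mul_dvd_of_dvd_of_dvd (by norm_num : Nat.Coprime 2 3) hd2 hd3)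
  haveI := isCyclic_of_card_six hcard
  have hz : Subgroup.center (Cfsg.Omega F (Cfsg.quadFormOdd 3 F)) = ⊥ := by
    rw [← StdForms.coe_oddQ]
    exact Orth.center_omega_eq_bot h2F hQ (by decide) (by decide)
  exact Schur.hasSchurMultiplier_congr hA
    (iso.symm.trans (QuotientGroup.quotientBot.symm.trans (QuotientGroup.quotientMulEquivOfEq hz.symm)))
    (mulEquivOfCyclicCardEq (by rw [hcard]; simp))

end Cfsg.Agent.Lib.Compute.SchurOmega73
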