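import Cfsg.Agent.Lib.Compute.Perm

/-!
Kernel computation: permutations of `n` points with phases modulo three.

A digit `3 * i + s` of a code says that a point goes to point `i` with phase `s`.
-/

set_option autoImplicit false

namespace Cfsg.Agent.Lib.Compute.SchurOmega73

variable {n w : ℕ}

/-- Composition, `q` first. -/
noncomputable def mulPh (w n p q : ℕ) : ℕ :=
  packP w (fun i => forceNat (getP w q i) fun a => forceNat (getP w p (a / 3)) fun b =>
    3 * (b / 3) + (a + b) % 3) n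

/-- The action on the plain points, followed by that on the phased points. -/
noncomputable def actPh (w n p x : ℕ) : ℕ :=
  Bool.rec (motive := fun _ => ℕ)
    (Bool.rec (motive := fun _ => ℕ) x
      (forceNat (getP w p ((x - n) / 3)) fun b => n + (3 * (b / 3) + (b + (x - n)) % 3))
      (Nat.blt x (4 * n)))
    (getP w p x / 3) (Nat.blt x n)

/-- The operations. -/
noncomputable def phOps (w n : ℕ) : Ops where
  mul := mulPh w n
  one := packP w (fun i => 3 * i) n
  act := actPh w n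

/-- The shift of the phase. -/
def phShift (n : ℕ) : Equiv.Perm (Fin n × ZMod 3) := Equiv.prodCongr (Equiv.refl _) (Equiv.addRight 1)

/-- Permutations commuting with the shift. -/
def phaseGroup (n : ℕ) : Subgroup (Equiv.Perm (Fin n × ZMod 3)) :=
  Subgroup.centralizer {phShift n}

/-- The image of a point with phase zero. -/
def phImg (g : phaseGroup n) (i : Fin n) : Fin n × ZMod 3 := (g : Equiv.Perm (Fin n × ZMod 3)) (i, 0)

theorem phase_apply (g : phaseGroup n) (i : Fin n) (s : ZMod 3) :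
    (g : Equiv.Perm (Fin n × ZMod 3)) (i, s) = ((phImg g i).1, (phImg g i).2 + s) := by
  have h : ∀ t : ZMod 3, (g : Equiv.Perm (Fin n × ZMod 3)) (i, t + 1) =
      (((g : Equiv.Perm _) (i, t)).1, ((g : Equiv.Perm _) (i, t)).2 + 1) := fun t => by
    have := congrArg (fun e => e (i, t)) (Subgroup.mem_centralizer_singleton_iff.1 g.2)
    simpa [phShift, Equiv.Perm.mul_apply, Prod.map] using this
  have h1 := h 0
  have h2 := h 1
  rw [zero_add] at h1
  rw [h1, show (1 : ZMod 3) + 1 = 2 from rfl] at h2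
  rcases (show ∀ t : ZMod 3, t = 0 ∨ t = 1 ∨ t = 2 by decide) s with rfl | rfl | rfl
  · simp [phImg]
  · exact h1
  · rw [h2]; exact Prod.ext rfl (add_assoc _ _ _)

/-- The digit at a point. -/
def phDig (g : phaseGroup n) (i : ℕ) : ℕ :=
  if h : i < n then 3 * (phImg g ⟨i, h⟩).1.val + (phImg g ⟨i, h⟩).2.val else 0

theorem phDig_lt (g : phaseGroup n) {i : ℕ} (h : i < n) : phDig g i < 3 * n := by
  rw [phDig, dif_pos h]
  have h1 : (phImg g ⟨i, h⟩).1.val < n := Fin.isLt _
  have h2 : (phImg g ⟨i, h⟩).2.val < 3 := ZMod.val_lt _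
  omega

theorem phDig_div (g : phaseGroup n) {i : ℕ} (h : i < n) :
    phDig g i / 3 = (phImg g ⟨i, h⟩).1.val := by
  rw [phDig, dif_pos h]
  have h2 : (phImg g ⟨i, h⟩).2.val < 3 := ZMod.val_lt _
  omega

theorem phDig_mod (g : phaseGroup n) {i : ℕ} (h : i < n) :
    phDig g i % 3 = (phImg g ⟨i, h⟩).2.val := by
  rw [phDig, dif_pos h]
  have h2 : (phImg g ⟨i, h⟩).2.val < 3 := ZMod.val_lt _
  omega

theorem phDig_mul (g k : phaseGroup n) {i : ℕ} (hi : i < n) :
    phDig (g * k) i = 3 * (phDig g (phDig k i / 3) / 3) + (phDig k i + phDig g (phDig k i / 3)) % 3 := by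
  have hj : phDig k i / 3 < n := by have := phDig_lt k hi; omega
  have hjx : (⟨phDig k i / 3, hj⟩ : Fin n) = (phImg k ⟨i, hi⟩).1 :=
    Fin.ext (phDig_div k hi)
  rw [phDig_div g hj, Nat.add_mod, phDig_mod k hi, phDig_mod g hj, hjx, phDig, dif_pos hi,
    show phImg (g * k) ⟨i, hi⟩ = (g : Equiv.Perm (Fin n × ZMod 3)) (phImg k ⟨i, hi⟩) from rfl]
  rcases hq : phImg k ⟨i, hi⟩ with ⟨a, s⟩
  rw [phase_apply g a s, ZMod.val_add, Nat.add_comm s.val]

/-- The code. -/
noncomputable def encPh (w : ℕ) (g : phaseGroup n) : ℕ := packP w (phDig g) n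

theorem getP_encPh (hw : 3 * n ≤ 2 ^ w) (g : phaseGroup n) {i : ℕ} (h : i < n) :
    getP w (encPh w g) i = phDig g i :=
  getP_packP (fun _ hj => (phDig_lt g hj).trans_le hw) h

theorem actPh_plain (hw : 3 * n ≤ 2 ^ w) (g : phaseGroup n) (j : Fin n) :
    actPh w n (encPh w g) j = (phImg g j).1.val := by
  rw [actPh, show Nat.blt j n = true by simp [Nat.blt_eq]]
  show getP w (encPh w g) j / 3 = _
  rw [getP_encPh hw g j.isLt, phDig_div g j.isLt]

theorem actPh_ge (p x : ℕ) (h : 4 * n ≤ x) (hn : n ≤ x) : actPh w n p x = x := by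
  rw [actPh, show Nat.blt x n = false from Bool.eq_false_iff.2 (by simp [Nat.blt_eq]; omega),
    show Nat.blt x (4 * n) = false from Bool.eq_false_iff.2 (by simp [Nat.blt_eq]; omega)]

theorem actPh_phase (hw : 3 * n ≤ 2 ^ w) (g : phaseGroup n) (j : Fin n) (s : ZMod 3) :
    actPh w n (encPh w g) (n + (3 * j + s.val)) =
      n + (3 * ((g : Equiv.Perm (Fin n × ZMod 3)) (j, s)).1.val + ((g : Equiv.Perm (Fin n × ZMod 3)) (j, s)).2.val) := by
  have hs : s.val < 3 := ZMod.val_lt s
  have hj := j.isLt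
  rw [actPh, show Nat.blt (n + (3 * j + s.val)) n = false from Bool.eq_false_iff.2 (by simp [Nat.blt_eq]),
    show Nat.blt (n + (3 * (j : ℕ) + s.val)) (4 * n) = true by simp [Nat.blt_eq]; omega]
  show forceNat _ _ = _
  rw [forceNat_eq, show (n + (3 * (j : ℕ) + s.val) - n) / 3 = (j : ℕ) by omega,
    getP_encPh hw g j.isLt, phDig_div g j.isLt, show n + (3 * (j : ℕ) + s.val) - n = 3 * (j : ℕ) + s.val by omega,
    phase_apply g j s, ZMod.val_add]
  have := phDig_mod g j.isLt
  simp only [Fin.eta] at this ⊢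
  omega

theorem cases_point (x : ℕ) :
    (x < n) ∨ (∃ (j : Fin n) (s : ZMod 3), x = n + (3 * j + s.val)) ∨ (n ≤ x ∧ 4 * n ≤ x) := by
  rcases Nat.lt_or_ge x n with h | h
  · exact Or.inl h
  rcases Nat.lt_or_ge x (4 * n) with h' | h'
  · refine Or.inr (Or.inl ⟨⟨(x - n) / 3, by omega⟩, ((x - n) % 3 : ℕ), ?_⟩)
    rw [ZMod.val_natCast]
    show x = n + (3 * ((x - n) / 3) + _)
    omega
  · exact Or.inr (Or.inr ⟨h, h'⟩)

/-- The coding. -/
noncomputable def phCoding (w n : ℕ) (hw : 3 * n ≤ 2 ^ w) : Coding (phaseGroup n) (phOps w n) where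
  enc := encPh w
  inj g k h := by
    refine Subtype.ext (Equiv.ext fun ⟨i, s⟩ => ?_)
    have e : phDig g i = phDig k i := by rw [← getP_encPh hw g i.isLt, h, getP_encPh hw k i.isLt]
    have h1 := congrArg (· / 3) e
    have h2 := congrArg (· % 3) e
    simp only [phDig_div _ i.isLt, phDig_mod _ i.isLt, Fin.eta] at h1 h2
    rw [phase_apply g i s, phase_apply k i s, Fin.ext h1, ZMod.val_injective 3 h2]
  mul_enc g k := by
    show mulPh w n _ _ = _
    refine packP_congr fun i hi => ?_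
    simp only [forceNat_eq]
    rw [getP_encPh hw k hi, getP_encPh hw g (by have := phDig_lt k hi; omega), phDig_mul g k hi]
  one_enc := packP_congr fun i hi => by simp [phDig, phImg, hi]
  act_one x := by
    have h1 : packP w (fun i => 3 * i) n = encPh w (1 : phaseGroup n) :=
      packP_congr fun i hi => by simp [phDig, phImg, hi]
    show actPh w n (packP w (fun i => 3 * i) n) x = x
    rw [h1]
    rcases cases_point (n := n) x with h | ⟨j, s, rfl⟩ | ⟨h, h'⟩
    · exact (actPh_plain hw 1 ⟨x, h⟩).trans rfl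
    · rw [actPh_phase hw]; rfl
    · exact actPh_ge _ _ h' h
  act_mul g k x := by
    show actPh w n (encPh w (g * k)) x = actPh w n (encPh w g) (actPh w n (encPh w k) x)
    rcases cases_point (n := n) x with h | ⟨j, s, rfl⟩ | ⟨h, h'⟩
    · lift x to Fin n using h
      rw [actPh_plain hw, actPh_plain hw, actPh_plain hw]
      show ((g : Equiv.Perm (Fin n × ZMod 3)) (phImg k x)).1.val = _
      rcases hq : phImg k x with ⟨a, t⟩
      rw [phase_apply g a t]
    · rw [actPh_phase hw, actPh_phase hw, actPh_phase hw]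
      rfl
    · rw [actPh_ge _ _ h' h, actPh_ge _ _ h' h, actPh_ge _ _ h' h]

/-- Two codes are inverse to each other. -/
noncomputable def phCheck (w n c d : ℕ) : Bool :=
  (List.range n).all fun i =>
    forceNat (getP w c i) fun a => forceNat (getP w d i) fun b =>
      Nat.blt a (3 * n) && Nat.blt b (3 * n) &&
      Nat.beq (getP w d (a / 3) / 3) i && Nat.beq ((a + getP w d (a / 3)) % 3) 0 &&
      Nat.beq (getP w c (b / 3) / 3) i && Nat.beq ((b + getP w c (b / 3)) % 3) 0

theorem phCheck_spec {c d : ℕ} (h : phCheck w n c d = true) {i : ℕ} (hi : i < n) :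
    getP w c i < 3 * n ∧ getP w d i < 3 * n ∧
      getP w d (getP w c i / 3) / 3 = i ∧ (getP w c i + getP w d (getP w c i / 3)) % 3 = 0 ∧
      getP w c (getP w d i / 3) / 3 = i ∧ (getP w d i + getP w c (getP w d i / 3)) % 3 = 0 := by
  have := List.all_eq_true.1 h i (List.mem_range.2 hi)
  simp only [forceNat_eq, Bool.and_eq_true, Nat.blt_eq] at this
  obtain ⟨⟨⟨⟨⟨h1, h2⟩, h3⟩, h4⟩, h5⟩, h6⟩ := this
  exact ⟨h1, h2, Nat.eq_of_beq_eq_true h3, Nat.eq_of_beq_eq_true h4, Nat.eq_of_beq_eq_true h5,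
    Nat.eq_of_beq_eq_true h6⟩

theorem natCast_cancel {a b : ℕ} (h : (a + b) % 3 = 0) (s : ZMod 3) :
    (b : ZMod 3) + ((a : ZMod 3) + s) = s := by
  have e : ((a + b : ℕ) : ZMod 3) = 0 := by rw [← ZMod.natCast_mod, h, Nat.cast_zero]
  rw [← add_assoc, add_comm (b : ZMod 3), ← Nat.cast_add, e, zero_add]

/-- The permutation of two inverse codes. -/
noncomputable def phOfCode (c d : ℕ) (h : phCheck w n c d = true) : Equiv.Perm (Fin n × ZMod 3) where
  toFun x := (⟨getP w c x.1 / 3, by have := (phCheck_spec h x.1.isLt).1; omega⟩, (getP w c x.1 : ZMod 3) + x.2)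
  invFun x := (⟨getP w d x.1 / 3, by have := (phCheck_spec h x.1.isLt).2.1; omega⟩, (getP w d x.1 : ZMod 3) + x.2)
  left_inv := fun ⟨i, s⟩ => by
    obtain ⟨-, -, h3, h4, -, -⟩ := phCheck_spec h i.isLt
    exact Prod.ext (Fin.ext h3) (natCast_cancel h4 s)
  right_inv := fun ⟨i, s⟩ => by
    obtain ⟨-, -, -, -, h5, h6⟩ := phCheck_spec h i.isLt
    exact Prod.ext (Fin.ext h5) (natCast_cancel h6 s)

theorem phOfCode_mem (c d : ℕ) (h : phCheck w n c d = true) : phOfCode c d h ∈ phaseGroup n := by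
  refine Subgroup.mem_centralizer_singleton_iff.2 (Equiv.ext fun ⟨i, s⟩ => ?_)
  exact Prod.ext rfl (add_assoc _ _ _).symm

theorem encPh_phOfCode {c d : ℕ} (h : phCheck w n c d = true) (g : phaseGroup n)
    (hg : ∀ i : Fin n, phImg g i =
      (phOfCode c d h (i, 0))) (hc : packP w (getP w c) n = c) : encPh w g = c := by
  refine (packP_congr fun i hi => ?_).trans hc
  rw [phDig, dif_pos hi, hg]
  show 3 * (getP w c i / 3) + ((getP w c i : ZMod 3) + 0).val = getP w c i
  rw [add_zero, ZMod.val_natCast]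
  omega

theorem gensOK_phase (hw : 3 * n ≤ 2 ^ w) {S : List (ℕ × ℕ)}
    (h : (S.all fun p => phCheck w n p.1 p.2 && Nat.beq (packP w (getP w p.1) n) p.1 &&
      Nat.beq (packP w (getP w p.2) n) p.2) = true) : GensOK (phCoding w n hw) S := by
  rintro ⟨c, d⟩ hp
  have := List.all_eq_true.1 h _ hp
  simp only [Bool.and_eq_true] at this
  obtain ⟨⟨h1, h2⟩, h3⟩ := this
  let g : phaseGroup n := ⟨phOfCode c d h1, phOfCode_mem c d h1⟩
  refine ⟨g, Subgroup.mem_top _, encPh_phOfCode h1 g (fun _ => rfl) (Nat.eq_of_beq_eq_true h2), ?_⟩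
  refine (packP_congr fun i hi => ?_).trans (Nat.eq_of_beq_eq_true h3)
  rw [phDig, dif_pos hi]
  show 3 * (getP w d i / 3) + ((getP w d i : ZMod 3) + 0).val = getP w d i
  rw [add_zero, ZMod.val_natCast]
  omega

/-- Forget the phases. -/
def phForget (n : ℕ) : phaseGroup n →* Equiv.Perm (Fin n) :=
  MonoidHom.toHomPerm
    { toFun := fun g i => (phImg g i).1
      map_one' := rfl
      map_mul' := fun g k => funext fun i => by
        show ((g : Equiv.Perm (Fin n × ZMod 3)) (phImg k i)).1 = _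
        rcases hq : phImg k i with ⟨a, t⟩
        rw [phase_apply g a t]
        show _ = (phImg g (phImg k i).1).1
        rw [hq] }

theorem imgP_phForget (g : phaseGroup n) {i : ℕ} (hi : i < n) :
    imgP (Equiv.refl (Fin n)) (phForget n g) i = phDig g i / 3 := by
  rw [phDig_div g hi]
  simp [imgP, hi]
  rfl

end Cfsg.Agent.Lib.Compute.SchurOmega73
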